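import Groth.Agent.SGA3x.K197.RatNodes
import Groth.Agent.SGA3x.K19.NormQuot
import Groth.Agent.AlgGrp.K408.QuotSep
import Groth.Agent.S16130
import Groth.Agent.S5249
import Groth.Agent.S4642
import Groth.Agent.S0354
import Groth.Agent.Sga3.H828.MTMain
import Groth.Agent.Sga3.H828.MTHyp
import Groth.Agent.Flat2B.SmoothGeom
import Groth.Agent.AlgGrp.K414.OrbitRed
import Groth.Agent.AGF.K493.MultSub
import Groth.Agent.Sga3.H831.CartBc

/-!
# The dimension of the scheme of maximal tori

`G` a smooth affine group over a field `k`, `𝒯` its scheme of maximal tori, `T` a maximal torus of a base change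
`G_E` with centralizer `C`: `dim G = dim 𝒯 + dim C` (`main`).  Over an algebraically closed field `𝒯` is the quotient
of `G` by the normalizer of `T`, which contains `C` as an open and closed subgroup.
-/

set_option autoImplicit false
universe u
open CategoryTheory MonoidalCategory CartesianMonoidalCategory MonObj GrpObj AlgebraicGeometry Limits

namespace K916.DimTori

open Groth.Agent Groth.Agent.Sga3B Groth.Agent.Sga3B.BcPts Groth.Agent.Sga3B.MT
open Groth.Agent.Redsub.H649.ConjPts Groth.Agent.Redsub.H649.QuotCrit Groth.Agent.Redsub.H649.ConjLoc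

section quot

variable {S : Scheme.{u}} {G T N : Over S} [GrpObj G] [GrpObj T] [GrpObj N] [IsAffineHom G.hom] [Smooth G.hom]

/-- Any scheme of maximal tori is the quotient by the normalizer of a maximal torus. -/
theorem exists_isQuotient {i : T ⟶ G} (hT : Red.IsMaximalTorus i) {n : N ⟶ G} (hN : Red.IsNormalizerOf i n)
    (hNs : Smooth N.hom) {𝒯 : Over S} {Tu : Over 𝒯.left} [GrpObj Tu] {iu : Tu ⟶ Red.bc 𝒯.hom G}
    (h𝒯 : SGA3x.RepresentsMaxTori G 𝒯 Tu iu) : ∃ q : G ⟶ 𝒯, RedSub.IsQuotient n q ∧ Smooth q.left := by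
  have h3 : IsMonHom i := hT.1
  have h3' : Mono i := hT.2.1
  have h4 : IsClosedImmersion i.left := Sga3B.TorClosed636.isClosedImmersion_of_isTorus i hT.2.2.1
  have hM := K19.NormQuot.representsTor h𝒯
  have hcl : Classifies i 𝒯 iu := by
    intro S' f g₀
    exact hM.2 S' f (Red.bc f T) (fam i g₀)
      (MT.isMaximalTorus_comp_cj g₀ _ (Sga3.H665.TorBcNA.isMaximalTorus_bc f hT))
  have hlc : LocConj i 𝒯 iu := by
    have h5 : IsAffineHom (Red.bc 𝒯.hom G).hom := MorphismProperty.pullback_snd _ _ ‹_›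
    have h6 : Smooth (Red.bc 𝒯.hom G).hom := MorphismProperty.pullback_snd _ _ ‹_›
    obtain ⟨V, π, e1, e2, g, hg⟩ := S4116.result 𝒯.left (Red.bc 𝒯.hom G) (Red.bc 𝒯.hom T) Tu
      ((Over.pullback 𝒯.hom).map i) iu (Sga3.H665.TorBcNA.isMaximalTorus_bc 𝒯.hom hT) hM.1
    exact locConj_of_conjEq fun m => ⟨V, π, inferInstance, inferInstance, π.surjective m, g,
      K19.NormQuot.conjEq_of_conjBy hg⟩
  obtain ⟨q, hq1, hq2, hq3⟩ := Groth.Agent.Redsub.H649.QuotCrit.exists_quotient hN hNs hcl hlc
  exact ⟨q, hq2, hq3⟩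

end quot

section dims

variable {K : Type u} [Field K]

/-- The fibre of the orbit map of a quotient is the subgroup. -/
theorem isPullback_unit {S : Scheme.{u}} {G N Q : Over S} [GrpObj G] [GrpObj N] (n : N ⟶ G) [IsMonHom n]
    (q : G ⟶ Q) (h : IsPullback (fst G N) ((G ◁ n) ≫ μ[G]) q q) :
    IsPullback n (toUnit N) q (η[G] ≫ q) := by
  refine IsPullback.mk ⟨?_⟩ ⟨PullbackCone.IsLimit.mk _
    (fun s => h.lift (toUnit _ ≫ η[G]) s.fst (by
      rw [Category.assoc, s.condition, toUnit_unique (toUnit s.pt) s.snd]) ≫ snd G N) ?_ ?_ ?_⟩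
  · have h1 := congrArg (fun z => lift (toUnit N ≫ η[G]) (𝟙 N) ≫ z) h.w
    simp only [lift_fst_assoc, lift_whiskerLeft_assoc, Category.id_comp, Category.assoc] at h1
    have h2 : lift (toUnit N ≫ η[G]) n ≫ μ[G] = n := by
      have h3 : (1 : N ⟶ G) * n = n := _root_.one_mul n
      rw [Hom.mul_def, Hom.one_def] at h3
      exact h3
    rw [← Category.assoc (lift _ _) μ[G] q, h2] at h1
    exact h1.symm
  · intro s
    have hc : (toUnit _ ≫ η[G]) ≫ q = s.fst ≫ q := by
      rw [Category.assoc, s.condition, toUnit_unique (toUnit s.pt) s.snd]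
    have h1 := h.lift_snd (toUnit s.pt ≫ η[G]) s.fst hc
    have h2 := h.lift_fst (toUnit s.pt ≫ η[G]) s.fst hc
    set t := h.lift (toUnit s.pt ≫ η[G]) s.fst hc with ht
    have h3 : t = lift (toUnit s.pt ≫ η[G]) (t ≫ snd G N) := by
      ext1
      · rw [lift_fst, h2]
      · rw [lift_snd]
    rw [h3, lift_whiskerLeft_assoc] at h1
    have h4 : (1 : s.pt ⟶ G) * ((t ≫ snd G N) ≫ n) = (t ≫ snd G N) ≫ n := _root_.one_mul _
    rw [Hom.mul_def, Hom.one_def] at h4
    exact h4.symm.trans h1
  · intro s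
    exact toUnit_unique _ _
  · intro s m hm1 hm2
    have hc : (toUnit _ ≫ η[G]) ≫ q = s.fst ≫ q := by
      rw [Category.assoc, s.condition, toUnit_unique (toUnit s.pt) s.snd]
    have h3 : lift (toUnit s.pt ≫ η[G]) m = h.lift (toUnit s.pt ≫ η[G]) s.fst hc := by
      apply h.hom_ext
      · rw [lift_fst, h.lift_fst]
      · rw [h.lift_snd, lift_whiskerLeft_assoc]
        have h4 : (1 : s.pt ⟶ G) * (m ≫ n) = m ≫ n := _root_.one_mul _
        rw [Hom.mul_def, Hom.one_def] at h4
        rw [h4, hm1]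
    rw [← h3, lift_snd]

/-- **The dimension of a quotient.** -/
theorem dim_quotient [IsAlgClosed K] {G N Q : Over (Spec (CommRingCat.of K))} [GrpObj G] [GrpObj N] [Smooth G.hom]
    [QuasiCompact G.hom] [LocallyOfFiniteType N.hom] (n : N ⟶ G) [IsMonHom n] [Mono n] [QuasiCompact n.left]
    {q : G ⟶ Q} (hq : RedSub.IsQuotient n q) :
    topologicalKrullDim G.left = topologicalKrullDim Q.left + topologicalKrullDim N.left := by
  obtain ⟨X, a, o, h1, h2, h3, h4, h5, h6, h7, h8⟩ := AlgGrp.K408.QuotSep.exists_quot K G N n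
  have hX : Smooth X.hom := h4 inferInstance
  have hr : IsReduced X.left := Flat2B.SmoothGeom.isReduced_of_smooth X.hom
  obtain ⟨e, he⟩ := RedSub.H650.QuotPts.exists_iso (i := n) (q := a.orbitMap o) (q' := q) ⟨h6, h5, h7, h8⟩ hq
  have hd := S16130.result K G X a o
  have hrange : Set.range (a.orbitMap o).left.base = Set.univ := Set.range_eq_univ.2 h6.surj
  have h9 : topologicalKrullDim ↥(Set.range (a.orbitMap o).left.base) = topologicalKrullDim Q.left := by
    rw [hrange]
    have hi : IsIso e.hom.left := inferInstanceAs (IsIso ((Over.forget _).map e.hom))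
    exact IsHomeomorph.topologicalKrullDim_eq _ ((Scheme.homeoOfIso (asIso e.hom.left)).isHomeomorph.comp
      (Homeomorph.Set.univ X.left).isHomeomorph)
  have h10 : topologicalKrullDim ↥(Limits.pullback (a.orbitMap o).left o.left) = topologicalKrullDim N.left := by
    have h11 := isPullback_unit n (a.orbitMap o) h8
    rw [_root_.K414.OrbitRed.one_orbitMap] at h11
    have h12 := h11.map (Over.forget _)
    exact (IsHomeomorph.topologicalKrullDim_eq _ (Scheme.homeoOfIso h12.isoPullback).isHomeomorph).symm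
  rw [hd, h9, h10]

/-- An open subgroup has the same dimension. -/
theorem dim_eq_of_open {Z N : Over (Spec (CommRingCat.of K))} [GrpObj Z] [GrpObj N] [LocallyOfFiniteType N.hom]
    [IsSeparated Z.hom]
    (f : Z ⟶ N) (h1 : IsOpenImmersion f.left) (h2 : IsClosedImmersion f.left) :
    topologicalKrullDim Z.left = topologicalKrullDim N.left := by
  have hZ : LocallyOfFiniteType Z.hom := by
    rw [← Over.w f]
    infer_instance
  let z : Z.left := η[Z].left (IsLocalRing.closedPoint K)
  have hz : IsClosed ({z} : Set Z.left) := by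
    have h3 : η[Z].left ≫ Z.hom = 𝟙 (Spec (CommRingCat.of K)) := Over.w η[Z]
    have h4 : IsClosedImmersion (η[Z].left ≫ Z.hom) := by
      rw [h3]
      exact inferInstanceAs (IsClosedImmersion (𝟙 (Spec (CommRingCat.of K))))
    have h5 : IsClosedImmersion η[Z].left := IsClosedImmersion.of_comp _ Z.hom
    have h6 := η[Z].left.isClosedEmbedding.isClosedMap _ (isClosed_univ (X := (𝟙_ (Over (Spec (CommRingCat.of K)))).left))
    have h7 : η[Z].left '' Set.univ = {z} := by
      ext y
      constructor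
      · rintro ⟨w, -, rfl⟩
        exact congrArg _ (Subsingleton.elim (α := PrimeSpectrum K) w (IsLocalRing.closedPoint K))
      · rintro rfl
        exact ⟨_, trivial, rfl⟩
    rwa [h7] at h6
  have hfz : IsClosed ({f.left z} : Set N.left) := by
    have := f.left.isClosedEmbedding.isClosedMap _ hz
    rwa [Set.image_singleton] at this
  rw [← S0354.result K Z z hz, ← S0354.result K N (f.left z) hfz]
  exact ringKrullDim_eq_of_ringEquiv (asIso (f.left.stalkMap z)).commRingCatIsoToRingEquiv.symm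

/-- The dimension formula over an algebraically closed field. -/
theorem main0 [IsAlgClosed K] (G : Over (Spec (CommRingCat.of K))) [GrpObj G] [Smooth G.hom] [IsAffineHom G.hom]
    {𝒯 : Over (Spec (CommRingCat.of K))} {Tu : Over 𝒯.left} [GrpObj Tu] {iu : Tu ⟶ Red.bc 𝒯.hom G}
    (h𝒯 : SGA3x.RepresentsMaxTori G 𝒯 Tu iu) {T C : Over (Spec (CommRingCat.of K))} [GrpObj T] [GrpObj C]
    (i : T ⟶ G) (hi : Red.IsMaximalTorus i) (c : C ⟶ G) (hc : Red.IsCentralizerOf i c) :
    topologicalKrullDim G.left = topologicalKrullDim 𝒯.left + topologicalKrullDim C.left := by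
  have h1 : IsMonHom i := hi.1
  have h2 : Mono i := hi.2.1
  have h4 : IsClosedImmersion i.left := Sga3B.TorClosed636.isClosedImmersion_of_isTorus i hi.2.2.1
  obtain ⟨-, N, _, n, hN, hNc, hNs⟩ := S3006.result _ G T i h4 hi.2.2.1
  have hn1 : IsMonHom n := hN.1
  have hn2 : Mono n := hN.2.1
  obtain ⟨q, hq, -⟩ := exists_isQuotient hi hN hNs h𝒯
  have h5 : SGA3x.IsMultTypeFT T := K493.MultSub.isMultTypeFT_of_isTorus hi.2.2.1
  obtain ⟨f, hf1, hf2, hf3⟩ := S5249.result T G C N h5 inferInstance inferInstance i c n hc hN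
  have h6 : IsSeparated C.hom := by
    rw [← Over.w f, ← Over.w n]
    infer_instance
  rw [dim_quotient n hq, dim_eq_of_open f hf2 hf3]

end dims

/-- The scheme of maximal tori is smooth and affine if `G` has a maximal torus over some field extension. -/
theorem smooth_affine {k E : Type u} [Field k] [Field E] [Algebra k E] (G : Over (Spec (CommRingCat.of k)))
    [GrpObj G] [Smooth G.hom] [IsAffineHom G.hom] {𝒯 : Over (Spec (CommRingCat.of k))} {Tu : Over 𝒯.left}
    [GrpObj Tu] {iu : Tu ⟶ Red.bc 𝒯.hom G} (h𝒯 : SGA3x.RepresentsMaxTori G 𝒯 Tu iu)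
    (T : Over (Spec (CommRingCat.of E))) [GrpObj T] (i : T ⟶ Red.bc (K197.Rat.bs k E) G)
    (hi : Red.IsMaximalTorus i) : Smooth 𝒯.hom ∧ IsAffineHom 𝒯.hom := by
  have h1 : SGA3x.HasMaxTorusFpqcLocally G := by
    refine ⟨Spec (CommRingCat.of E), K197.Rat.bs k E, Sga3.H831.CartBc.flat_spec _,
      Sga3.H831.CartBc.surjective_spec _, fun V hV => ⟨(K197.Rat.bs k E) ⁻¹ᵁ V, ?_, ?_⟩, T,
      inferInstance, i, hi⟩
    · exact QuasiCompact.isCompact_preimage (f := K197.Rat.bs k E) V V.2 hV.isCompact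
    · have := Sga3.H831.CartBc.surjective_spec (K197.Rat.bs k E)
      exact Set.image_preimage_eq _ (K197.Rat.bs k E).surjective
  obtain ⟨M, Tu', _, iu', k1, k2, k3, k4⟩ := S4132.result _ G h1
  obtain ⟨e⟩ := Sga3.H828.MTMain.nonempty_iso (Sga3.H828.MTHyp.hyp_of_affine G) h𝒯 k1
  have he : IsIso e.hom.left := inferInstanceAs (IsIso ((Over.forget _).map e.hom))
  rw [← Over.w e.hom]
  exact ⟨inferInstance, inferInstance⟩

/-- **The dimension of the scheme of maximal tori.** -/
theorem main : K197.Rat.N4_dim_tori.{u} := by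
  intro k _ G _ _ _ 𝒯 Tu _ iu h𝒯 E _ _ T C _ _ i hi c hc
  let K := AlgebraicClosure E
  have h1 : IsAffineHom G.hom := inferInstance
  let G1 := Red.bc (K197.Rat.bs k E) G
  let G2 := Red.bc (K197.Rat.bs E K) G1
  have h2 : Smooth G1.hom := MorphismProperty.pullback_snd _ _ inferInstance
  have h3 : IsAffineHom G1.hom := MorphismProperty.pullback_snd _ _ inferInstance
  have h4 : Smooth G2.hom := MorphismProperty.pullback_snd _ _ inferInstance
  have h5 : IsAffineHom G2.hom := MorphismProperty.pullback_snd _ _ inferInstance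
  obtain ⟨Tu1, _, iu1, h𝒯1⟩ := Sga3.H828.MTMain.representsMaxTori_bc (q := K197.Rat.bs k E)
    (Sga3.H828.MTHyp.hyp_of_affine G) h𝒯
  obtain ⟨Tu2, _, iu2, h𝒯2⟩ := Sga3.H828.MTMain.representsMaxTori_bc (q := K197.Rat.bs E K)
    (Sga3.H828.MTHyp.hyp_of_affine G1) h𝒯1
  have h6 := main0 G2 h𝒯2 ((Over.pullback (K197.Rat.bs E K)).map i)
    (Sga3.H665.TorBcNA.isMaximalTorus_bc (K197.Rat.bs E K) hi) ((Over.pullback (K197.Rat.bs E K)).map c)
    (SplitBc264.isCentralizerOf_bc (K197.Rat.bs E K) hc)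
  have h7 : LocallyOfFiniteType (Red.bc (K197.Rat.bs k E) 𝒯).hom := by
    obtain ⟨h8, -⟩ := smooth_affine G h𝒯 T i hi
    exact MorphismProperty.pullback_snd _ _ inferInstance
  have h7' : LocallyOfFiniteType 𝒯.hom := by
    obtain ⟨h8, -⟩ := smooth_affine G h𝒯 T i hi
    infer_instance
  have h9 : LocallyOfFiniteType C.hom := by
    have h10 : IsMonHom i := hi.1
    have h11 : Mono i := hi.2.1
    have h12 : IsClosedImmersion i.left := Sga3B.TorClosed636.isClosedImmersion_of_isTorus i hi.2.2.1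
    obtain ⟨-, N, _, n, hN, hNc, hNs⟩ := S3006.result _ G1 T i h12 hi.2.2.1
    obtain ⟨f, hf1, hf2, hf3⟩ := S5249.result T G1 C N (K493.MultSub.isMultTypeFT_of_isTorus hi.2.2.1) h2 h3
      i c n hc hN
    rw [← Over.w f]
    infer_instance
  have d1 : topologicalKrullDim G2.left = topologicalKrullDim G.left :=
    (S4642.result (K := K) G1.hom).trans (S4642.result (K := E) G.hom)
  have d2 : topologicalKrullDim (Red.bc (K197.Rat.bs E K) (Red.bc (K197.Rat.bs k E) 𝒯)).left =
      topologicalKrullDim 𝒯.left :=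
    (S4642.result (K := K) (Red.bc (K197.Rat.bs k E) 𝒯).hom).trans (S4642.result (K := E) 𝒯.hom)
  have d3 : topologicalKrullDim (Red.bc (K197.Rat.bs E K) C).left = topologicalKrullDim C.left :=
    S4642.result (K := K) C.hom
  rw [← d1, h6, d2, d3]

end K916.DimTori
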