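import Groth.Agent.SGA3x.K197.RatNodes4
import Groth.Agent.SGA3x.K916.DimTori

/-!
# The scheme of maximal tori when the maximal torus is trivial

If `G` has a trivial maximal torus over `k`, its scheme of maximal tori is `Spec k` (`isIso_hom`), and its function
field is `k` (`main`).
-/

set_option autoImplicit false
universe u
open CategoryTheory MonoidalCategory CartesianMonoidalCategory MonObj GrpObj AlgebraicGeometry Limits

namespace K916.TrivTor

open Groth.Agent

section

variable {S : Scheme.{u}} {G T : Over S} [GrpObj G] [GrpObj T]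

/-- The normalizer of the trivial group is the whole group. -/
theorem isNormalizerOf_id {i : T ⟶ G} [IsMonHom i] (hT : Red.IsTrivialGrp T) : Red.IsNormalizerOf i (𝟙 G) := by
  have hT' : IsIso T.hom := hT
  have h0 : ∀ (X : Over S) (h : X ⟶ T), h ≫ i = 1 := by
    intro X h
    have h1 : h = 1 := by
      ext1
      rw [← cancel_mono T.hom, Over.w, Over.w]
    rw [h1, MonObj.one_comp]
  refine ⟨inferInstance, inferInstance, fun X g => ⟨fun _ X' x h => ⟨⟨h, ?_⟩, ⟨h, ?_⟩⟩, fun _ => ⟨g, Category.comp_id g⟩⟩⟩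
  · rw [h0, _root_.mul_one, mul_inv_cancel]
  · rw [h0, _root_.mul_one, inv_mul_cancel]

/-- A quotient by the whole group is trivial. -/
theorem isIso_of_isQuotient {Q : Over S} {q : G ⟶ Q} (hq : RedSub.IsQuotient (𝟙 G) q) : IsIso Q.hom := by
  have hepi : Epi q := RedSub.H650.QuotPts.epi_of_isQuotient hq
  have h1 : ∀ (X : Over S) (a b : X ⟶ G), a ≫ q = b ≫ q := by
    intro X a b
    have h2 := congrArg (fun z => lift a (a⁻¹ * b) ≫ z) hq.2.2.2.w
    simp only [lift_fst_assoc, whiskerLeft_id, Category.id_comp] at h2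
    have h3 : lift a (a⁻¹ * b) ≫ μ[G] = b := by
      rw [← Hom.mul_def]
      group
    rw [← Category.assoc, h3] at h2
    exact h2
  have h4 : q ≫ toUnit Q ≫ η[G] ≫ q = q := by
    rw [← Category.assoc, ← Category.assoc]
    exact (h1 G _ (𝟙 G)).trans (Category.id_comp q)
  have h5 : toUnit Q ≫ η[G] ≫ q = 𝟙 Q := by
    rw [← cancel_epi q, h4, Category.comp_id]
  have h6 : IsIso (toUnit Q) := ⟨η[G] ≫ q, h5, toUnit_unique _ _⟩
  have h7 : IsIso (toUnit Q).left := inferInstanceAs (IsIso ((Over.forget _).map (toUnit Q)))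
  exact h7

end

theorem main : K197.Rat.S3_triv.{u} := by
  intro k _ G _ _ _ _ 𝒯 Tu _ iu h𝒯 T _ i hi hT F _ _ x hx hxk hgen
  have h1 : IsMonHom i := hi.1
  have hN := isNormalizerOf_id (i := i) hT
  obtain ⟨q, hq, -⟩ := K916.DimTori.exists_isQuotient hi hN inferInstance h𝒯
  have h2 : IsIso 𝒯.hom := isIso_of_isQuotient hq
  obtain ⟨p, φ, rfl⟩ := hx
  have hss : Subsingleton (Spec (CommRingCat.of k)) := inferInstanceAs (Subsingleton (PrimeSpectrum k))
  have h3 : IsClosedImmersion (K197.Rat.bs k F) := by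
    have h5 : IsPreimmersion (K197.Rat.bs k F) := by
      rw [← hxk]
      infer_instance
    exact IsClosedImmersion.of_isPreimmersion _ (Set.subsingleton_of_subsingleton).isClosed
  have h4 : IsIso (K197.Rat.bs k F) := by
    have h5 : Surjective (K197.Rat.bs k F) := ⟨fun y => ⟨IsLocalRing.closedPoint F, Subsingleton.elim _ _⟩⟩
    exact isIso_of_isClosedImmersion_of_surjective _
  have h6 : Function.Surjective (algebraMap k F) := (isIso_SpecMap_iff.1 h4).2
  refine ⟨0, Fin.elim0, algebraicIndependent_empty_type, ?_⟩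
  rw [eq_top_iff]
  intro y _
  obtain ⟨z, rfl⟩ := h6 y
  exact algebraMap_mem _ z

end K916.TrivTor
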